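import Groth.Agent.L13.Canon.VertMain
import Groth.Agent.L13.Canon.VertDegree
import Groth.Agent.L21.RR.SkyPoint
import Groth.Agent.L21.InvHom
import Groth.Agent.L05.InterPair.Main
import Groth.Agent.L05.RelMinExists.Main
import Groth.Agent.L03.ShStab.Basic

/-!
# Invertible modules of large degree on a vertical curve have no first cohomology
-/

set_option autoImplicit false
set_option backward.isDefEq.respectTransparency false
set_option linter.style.haveILetI false
set_option linter.unusedSectionVars false
universe u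

open CategoryTheory CategoryTheory.Limits AlgebraicGeometry TopologicalSpace

noncomputable section

namespace Groth.L13.NumGenus

open Groth.L21.RR (SuppClosed)

section Curve

variable (k : Type u) [Field k] {Y : Scheme.{u}} [Y.Over (Spec (CommRingCat.of k))]
  [IsProper (Y ↘ Spec (CommRingCat.of k))] [IsIntegral Y] (hd : topologicalKrullDim Y = 1)

include hd

/-- A nonzero map of invertible modules on a curve does not lower the degree. -/
theorem curveDeg_le_of_hom {N M : Y.Modules} (hN : PicF.IsInvertible N) (hM : PicF.IsInvertible M) {φ : N ⟶ M}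
    (hφ : φ ≠ 0) : ArSurf.curveDeg k Y N ≤ ArSurf.curveDeg k Y M := by
  haveI := Groth.L21.RR.isNoetherian_of_proper (X := Y) k
  haveI := Groth.L21.InvHom.mono_of_ne_zero hN hM hφ
  obtain ⟨U, hne, hU⟩ := Groth.L21.InvHom.exists_isZero_cokernel hN hM hφ
  have hQ : SuppClosed (cokernel φ) := fun x hx => by
    rw [Groth.L21.RR.eq_genericPoint_of_not_isClosed hd.le hx]
    obtain ⟨y, hy⟩ := hne
    have hη : genericPoint Y ∈ U := ((genericPoint_spec Y).specializes trivial).mem_open U.2 hy
    have h0 := (Groth.L21.Mod.isZero_iff_stalk _).1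
      (IsZero.of_iso hU ((Scheme.Modules.restrictFunctorIsoPullback U.ι).app (cokernel φ))) ⟨genericPoint Y, hη⟩
    exact AddCommGrpCat.subsingleton_of_isZero
      (IsZero.of_iso h0 ((Groth.L21.Mod.restrictStalkF U.ι ⟨genericPoint Y, hη⟩).app (cokernel φ)).symm)
  have hS : (ShortComplex.mk φ (cokernel.π φ) (cokernel.condition φ)).ShortExact :=
    { exact := ShortComplex.exact_cokernel φ }
  have hNc := Groth.L16.ProperFinite.isCoh_of_isInvertible hN
  have hMc := Groth.L16.ProperFinite.isCoh_of_isInvertible hM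
  have hQc : Coh.IsCoh (cokernel φ) := (Groth.L03.ShStab.Basic.coh_parts k hNc hMc φ).2.2
  rw [Groth.L05.InterPair.curveDeg_eq_euler k hd, Groth.L05.InterPair.curveDeg_eq_euler k hd,
    Groth.L21.RR.euler_add k hd.le hS hNc hMc hQc, Groth.L21.RR.euler_eq_h0_of_suppClosed k hQ]
  linarith [Int.natCast_nonneg (Groth.L21.RR.h k 0 (cokernel φ))]

end Curve

variable {R : Type u} [CommRing R] [IsDomain R] [IsDiscreteValuationRing R]
  {X : Over (Spec (CommRingCat.of R))} (hX : ArSurf.IsArithSurface R X) (E : ArSurf.VertComp R X)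
  {L : X.left.Modules} (hL : ClSub.IsInverseOf L (ClSub.idealMod E.ι.ker))
  {ω : X.left.Modules} (hω : Canon.IsCanonical X.hom ω)

local notation "κ" => IsLocalRing.ResidueField R

include hX hL hω in
/-- Above the degree of the canonical module there is no first cohomology. -/
theorem subsingleton_h1_of_deg_gt {N : E.curve.left.Modules} (hN : PicF.IsInvertible N)
    (h : ArSurf.inter R X L E + ArSurf.inter R X ω E < ArSurf.curveDeg κ E.curve.left N) :
    Subsingleton (Coh.HH E.curve.left N 1) := by
  haveI : IsProper X.hom := Groth.L05.RelMinExists.isProper_of_projective hX.2.2.2.2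
  haveI : IsNoetherianRing (CommRingCat.of R) := inferInstanceAs (IsNoetherianRing R)
  haveI : IsLocallyNoetherian X.left := LocallyOfFiniteType.isLocallyNoetherian X.hom
  haveI := hX.2.1
  haveI := E.isIntegral
  haveI := Groth.L05.InterPair.isProper_curve E
  haveI := Groth.L21.RR.isNoetherian_of_proper (X := E.curve.left) κ
  obtain ⟨N', c, ιk, hc, hci, hιk, hreg, heq, hgen, hvia⟩ := Groth.L13.Canon.exists_canonicalVia_vert hX E hL hω
  haveI := hci
  obtain ⟨hMi, M₀, e, t, hM0, hdual⟩ :=
    Groth.L13.Canon.exists_duality_canonicalVia E.dim_eq hc ιk hιk hreg heq hgen hvia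
  have hLinv := Groth.L05.InterPair.isInvertible_of_cartier (Groth.L13.Canon.isEffCartier_vert hX E) hL
  have hωinv := Groth.L13.Canon.isInvertible_of_isCanonical hω
  have hdeg : ArSurf.curveDeg κ E.curve.left M₀ = ArSurf.inter R X L E + ArSurf.inter R X ω E := by
    rw [← Groth.L05.InterPair.curveDeg_congr κ E.dim_eq e]
    exact Groth.L05.InterPair.inter_tensor E hLinv hωinv
  have hzero : ∀ φ : N ⟶ M₀, φ = 0 := fun φ => by
    by_contra hne
    have := curveDeg_le_of_hom κ E.dim_eq hN hM0 hne
    linarith
  refine (subsingleton_iff_forall_eq 0).2 fun x => ?_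
  by_contra hx
  haveI := Groth.L21.RR.finite_HH' (k := κ) (Groth.L16.ProperFinite.isCoh_of_isInvertible hN) 1
  obtain ⟨ψ, hψ⟩ := Module.Projective.exists_dual_ne_zero κ hx
  obtain ⟨φ, hφ, -⟩ := hdual N (Groth.L16.ProperFinite.isCoh_of_isInvertible hN) ψ
  refine hψ ((hφ x).trans ?_)
  rw [hzero φ]
  show t (Groth.L16.CohLinear.hmap (0 : N ⟶ M₀) 1 x) = 0
  rw [Groth.L21.RR.hmap_zero, map_zero]

end Groth.L13.NumGenus
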