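import Groth.Agent.L13.NumGenus.CurveVanish
import Groth.Agent.L12.VBLift.Small
import Groth.Agent.L21.RR.PicFieldExt
import Groth.Agent.L05.EulerDiv.Seq
import Groth.Agent.L05.EulerDiv.Length
import Groth.Agent.L17.ClosedPush

/-!
# Lifting a frame over one more curve
-/

set_option autoImplicit false
set_option backward.isDefEq.respectTransparency false
set_option backward.isDefEq.respectTransparency.types false
set_option linter.style.haveILetI false
set_option linter.unusedSectionVars false
universe u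

open CategoryTheory CategoryTheory.Limits AlgebraicGeometry TopologicalSpace

noncomputable section

namespace Groth.L13.NumGenus

open Groth.L00.Tensor (tensorMap tensorIso tensorUnitRight)
open Groth.L16.CohLinear (hmap)
open Groth.L21.RR (SuppClosed e0)
open Groth.L18.Frame (IsFrame rs)

/-- Direct image along a closed immersion is fully faithful. -/
def pushFF {X Y : Scheme.{u}} (f : X ⟶ Y) [IsClosedImmersion f] :
    (Scheme.Modules.pushforward f).FullyFaithful :=
  haveI := Groth.L17.ClosedPush.isIso_counit f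
  (Scheme.Modules.pullbackPushforwardAdjunction f).fullyFaithfulROfIsIsoCounit

section Curve

variable (k : Type u) [Field k] {Y : Scheme.{u}} [Y.Over (Spec (CommRingCat.of k))]
  [IsProper (Y ↘ Spec (CommRingCat.of k))] [IsIntegral Y] (hd : topologicalKrullDim Y = 1)

include k hd

/-- A nonzero map of invertible modules of equal degree on a curve is an isomorphism. -/
theorem isIso_of_deg_eq {N M : Y.Modules} (hN : PicF.IsInvertible N) (hM : PicF.IsInvertible M) {φ : N ⟶ M}
    (hφ : φ ≠ 0) (heq : ArSurf.curveDeg k Y N = ArSurf.curveDeg k Y M) : IsIso φ := by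
  haveI := Groth.L21.RR.isNoetherian_of_proper (X := Y) k
  haveI := Groth.L21.InvHom.mono_of_ne_zero hN hM hφ
  obtain ⟨U, hne, hU⟩ := Groth.L21.InvHom.exists_isZero_cokernel hN hM hφ
  have hQ : SuppClosed (cokernel φ) := fun x hx => by
    rw [Groth.L21.RR.eq_genericPoint_of_not_isClosed hd.le hx]
    obtain ⟨y, hy⟩ := hne
    have hη : genericPoint Y ∈ U := ((genericPoint_spec Y).specializes trivial).mem_open U.2 hy
    have h0 := (Groth.L21.Mod.isZero_iff_stalk _).1
      (IsZero.of_iso hU ((Scheme.Modules.restrictFunctorIsoPullback U.ι).app (cokernel φ))) ⟨genericPoint Y, hη⟩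
    exact AddCommGrpCat.subsingleton_of_isZero
      (IsZero.of_iso h0 ((Groth.L21.Mod.restrictStalkF U.ι ⟨genericPoint Y, hη⟩).app (cokernel φ)).symm)
  have hS : (ShortComplex.mk φ (cokernel.π φ) (cokernel.condition φ)).ShortExact :=
    { exact := ShortComplex.exact_cokernel φ }
  have hNc := Groth.L16.ProperFinite.isCoh_of_isInvertible hN
  have hMc := Groth.L16.ProperFinite.isCoh_of_isInvertible hM
  have hQc : Coh.IsCoh (cokernel φ) := (Groth.L03.ShStab.Basic.coh_parts k hNc hMc φ).2.2
  rw [Groth.L05.InterPair.curveDeg_eq_euler k hd, Groth.L05.InterPair.curveDeg_eq_euler k hd,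
    Groth.L21.RR.euler_add k hd.le hS hNc hMc hQc, Groth.L21.RR.euler_eq_h0_of_suppClosed k hQ] at heq
  haveI := Groth.L21.RR.finite_HH' (k := k) hQc 0
  haveI hh : Subsingleton (Coh.HH Y (cokernel φ) 0) :=
    Module.finrank_zero_iff.1 (show Groth.L21.RR.h k 0 (cokernel φ) = 0 from
      Int.natCast_eq_zero.1 (by linarith))
  have hz : IsZero (cokernel φ) := by
    refine (Groth.L21.Mod.isZero_iff_stalk_subsingleton _).2 fun x => ⟨fun a b => ?_⟩
    haveI : Subsingleton Γ(cokernel φ, ⊤) := (e0 (cokernel φ)).symm.toEquiv.subsingleton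
    obtain ⟨s, hs, -⟩ := Groth.L21.RR.exists_section_germ hQ x a
    obtain ⟨t, ht, -⟩ := Groth.L21.RR.exists_section_germ hQ x b
    rw [← hs, ← ht, Subsingleton.elim s t]
  haveI : Epi φ := Preadditive.epi_of_isZero_cokernel φ hz
  exact isIso_of_mono_of_epi φ

/-- A nonzero section of a module of degree zero on a curve is a frame. -/
theorem isFrame_of_deg_zero {N : Y.Modules} (hN : PicF.IsInvertible N) (h0 : ArSurf.curveDeg k Y N = 0)
    {s : Γ(N, ⊤)} (hs : s ≠ 0) : IsFrame N ⊤ s := by
  let φ := Groth.L16.homOfSection N s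
  have happ : φ.app ⊤ (show Γ(Coh.structureModule Y, ⊤) from (1 : Γ(Y, ⊤))) = s := by
    rw [Groth.L16.homOfSection_app, one_smul]
    exact Groth.L18.Frame.rs_self N _ s
  have hφ : φ ≠ 0 := fun h => hs (by rw [← happ, h]; rfl)
  haveI := isIso_of_deg_eq k hd (Groth.L18.Ample.isInvertible_structureModule Y) hN hφ
    ((Groth.L05.InterPair.curveDeg_unit k hd).trans h0.symm)
  have := Groth.L19.ProjBdl.isFrame_of_iso (asIso φ) (Groth.L03.SurfAmple.isFrame_one (⊤ : Y.Opens))
  rw [show (asIso φ).hom = φ from rfl] at this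
  rwa [happ] at this

end Curve

/-- If restriction to a closed subscheme is onto on first sections, frames lift. -/
theorem exists_lift_section {A : Type u} [CommRing A] {X X' X₀ : Scheme.{u}} (j : X ⟶ X') [IsClosedImmersion j]
    (g₀ : X₀ ⟶ X') [IsClosedImmersion g₀] [X'.Over (Spec (CommRingCat.of A))] [X'.IsSeparated]
    [IsLocallyNoetherian X']
    {G : X₀.Modules} (hG : PicF.IsInvertible G)
    (e : (Scheme.Modules.pushforward g₀).obj G ≅ kernel (ClSub.unitToPush j))
    {N : X'.Modules} (hN : PicF.IsInvertible N)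
    (h1 : Subsingleton (Coh.HH X₀ (CohB1.tensorMod ((Scheme.Modules.pullback g₀).obj N) G) 1))
    (t : Γ((Scheme.Modules.pullback j).obj N, ⊤)) :
    ∃ s : Γ(N, ⊤), ProjUP.pullSec j N s = t := by
  letI : X₀.Over (Spec (CommRingCat.of A)) := ⟨g₀ ≫ (X' ↘ Spec (CommRingCat.of A))⟩
  obtain ⟨κ, w, hS, -⟩ := Groth.L12.VBLift.exists_restrict_seq_of_closedImmersion j N
    (Groth.L21.RR.isFlat_of_isInvertible hN)
  haveI := Groth.L17.ClosedPush.isIso_θ g₀ G N
  let ε : CohB1.tensorMod N (kernel (ClSub.unitToPush j)) ≅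
      (Scheme.Modules.pushforward g₀).obj (CohB1.tensorMod ((Scheme.Modules.pullback g₀).obj N) G) :=
    tensorIso (Iso.refl N) e.symm ≪≫ asIso (Groth.L17.ClosedPush.θ g₀ G N)
  haveI : IsLocallyNoetherian X₀ := LocallyOfFiniteType.isLocallyNoetherian g₀
  obtain ⟨φ⟩ := Groth.L05.InterPair.exists_HH_push (A := A) (W := X') g₀
    (CohB1.tensorMod ((Scheme.Modules.pullback g₀).obj N) G)
    (Groth.L16.ProperFinite.isCoh_of_isInvertible
      (Groth.L18.GenLoc.isInvertible_tensor (Groth.L18.Ample.isInvertible_pullback g₀ hN) hG)).1 rfl 1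
  haveI : Subsingleton (Coh.HH X' (CohB1.tensorMod N (kernel (ClSub.unitToPush j))) 1) :=
    ((Groth.L05.InterPair.hhIso (A := A) ε 1).trans φ.symm).toEquiv.subsingleton
  obtain ⟨x, hx⟩ := (Groth.L16.CohLinear.exact_hmap_delta hS 0
    ((e0 ((Scheme.Modules.pushforward j).obj ((Scheme.Modules.pullback j).obj N))).symm t)).1 (Subsingleton.elim _ _)
  refine ⟨e0 N x, ?_⟩
  show (Groth.L12.VBLift.eta j N).app ⊤ (e0 N x) = t
  rw [← Groth.L21.RR.e0_hmap, hx, AddEquiv.apply_symm_apply]

end Groth.L13.NumGenus
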