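import Groth.Agent.L13.NumGenus.PicLift

/-!
# Triviality of modules of degree zero over one more curve
-/

set_option autoImplicit false
set_option backward.isDefEq.respectTransparency false
set_option backward.isDefEq.respectTransparency.types false
set_option linter.style.haveILetI false
set_option linter.unusedSectionVars false
universe u

open CategoryTheory CategoryTheory.Limits AlgebraicGeometry TopologicalSpace

noncomputable section

namespace Groth.L13.NumGenus

open Groth.L00.Tensor (tensorMap tensorIso tensorUnitRight tensorLeftF)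
open Groth.L16.CohLinear (hmap)
open Groth.L21.RR (e0 st)
open Groth.L18.Frame (IsFrame rs)
open Groth.L21.PicExt (fl isFrame_fl mem_fl mem_fl_of_pullback mem_fl_pullback)

/-- Restricting in two steps agrees with restricting at once. -/
theorem unitToPush_comp {X Y Z : Scheme.{u}} (ρ : Z ⟶ Y) (z' : Y ⟶ X) (z : Z ⟶ X) (hz : ρ ≫ z' = z) :
    ClSub.unitToPush z' ≫ (Scheme.Modules.pushforward z').map (ClSub.unitToPush ρ) ≫
      ((Scheme.Modules.pushforwardComp ρ z').app _).hom ≫
      ((Scheme.Modules.pushforwardCongr hz).app (Coh.structureModule Z)).hom = ClSub.unitToPush z := by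
  subst hz
  refine Scheme.Modules.hom_ext _ _ fun U => ?_
  ext r
  simp
  rfl

section Disjoint

variable {X X' X₀ : Scheme.{u}} (j : X ⟶ X') [IsClosedImmersion j] (g₀ : X₀ ⟶ X') [IsClosedImmersion g₀]
  [IsIntegral X₀] {G : X₀.Modules} (hG : PicF.IsInvertible G)
  (e : (Scheme.Modules.pushforward g₀).obj G ≅ kernel (ClSub.unitToPush j))

include hG e in
/-- Away from the subscheme the kernel of restriction to it maps onto the functions of the other part. -/
theorem isIso_kernel_to_disjoint (hdis : ∀ x, g₀ x ∉ Set.range j) :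
    IsIso (kernel.ι (ClSub.unitToPush j) ≫ ClSub.unitToPush g₀) := by
  let c := kernel.ι (ClSub.unitToPush j) ≫ ClSub.unitToPush g₀
  haveI : Epi c := by
    refine (Groth.L21.Mod.epi_iff_stalk_surjective _).2 fun x v => ?_
    by_cases hx : x ∈ Set.range g₀
    · obtain ⟨a, rfl⟩ := hx
      haveI := Groth.L12.VBLift.epi_unitToPush g₀
      obtain ⟨w, hw⟩ := (Groth.L21.Mod.epi_iff_stalk_surjective (ClSub.unitToPush g₀)).1 inferInstance (g₀ a) v
      haveI : Subsingleton (((Scheme.Modules.pushforward j).obj (Coh.structureModule X)).presheaf.stalk (g₀ a)) :=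
        Groth.L17.ClosedPush.subsingleton_stalk_push j (Coh.structureModule X) (hdis a)
      obtain ⟨u, hu⟩ := Groth.L21.RR.exists_st_kernel (ClSub.unitToPush j) (g₀ a) w (Subsingleton.elim _ _)
      exact ⟨u, (Groth.L21.RR.st_comp _ _ (g₀ a) u).trans ((congrArg _ hu).trans hw)⟩
    · haveI : Subsingleton ↑((Groth.L21.Mod.stalkF X' x).obj ((Scheme.Modules.pushforward g₀).obj (Coh.structureModule X₀))) :=
        Groth.L17.ClosedPush.subsingleton_stalk_push g₀ (Coh.structureModule X₀) hx
      exact ⟨0, Subsingleton.elim _ _⟩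
  let γ : G ⟶ Coh.structureModule X₀ := (pushFF g₀).preimage (e.hom ≫ c)
  have hγ : (Scheme.Modules.pushforward g₀).map γ = e.hom ≫ c := (pushFF g₀).map_preimage _
  haveI := (pushFF g₀).faithful
  haveI : Epi γ := (Scheme.Modules.pushforward g₀).epi_of_epi_map (by rw [hγ]; exact epi_comp _ _)
  have hne : γ ≠ 0 := fun h => by
    have hz : IsZero (Coh.structureModule X₀) := IsZero.of_epi_eq_zero γ h
    have h1 := (Groth.L21.Mod.isZero_iff_stalk_subsingleton _).1 hz (genericPoint X₀)
    exact one_ne_zero (α := X₀.presheaf.stalk (genericPoint X₀))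
      ((Groth.L21.RR.bijective_smul_one (genericPoint X₀)).1 (Subsingleton.elim _ _))
  haveI := Groth.L21.InvHom.mono_of_ne_zero hG (Groth.L18.Ample.isInvertible_structureModule X₀) hne
  haveI : IsIso γ := isIso_of_mono_of_epi γ
  have : c = e.inv ≫ (Scheme.Modules.pushforward g₀).map γ := by rw [hγ, Iso.inv_hom_id_assoc]
  show IsIso c
  rw [this]
  infer_instance

include hG e in
/-- Sections on the other part extend by zero. -/
theorem exists_section_zero_on {A : Type u} [CommRing A] [X'.Over (Spec (CommRingCat.of A))]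
    (hdis : ∀ x, g₀ x ∉ Set.range j) {N : X'.Modules} (hN : PicF.IsInvertible N)
    (t : Γ((Scheme.Modules.pullback g₀).obj N, ⊤)) :
    ∃ s : Γ(N, ⊤), ProjUP.pullSec g₀ N s = t ∧ ProjUP.pullSec j N s = 0 := by
  obtain ⟨κ, w, -, hκ⟩ := Groth.L12.VBLift.exists_restrict_seq_of_closedImmersion j N
    (Groth.L21.RR.isFlat_of_isInvertible hN)
  haveI := isIso_kernel_to_disjoint j g₀ hG e hdis
  haveI := Groth.L17.ClosedPush.isIso_θ g₀ (Coh.structureModule X₀) N
  haveI : IsIso (Groth.L20.ResDescent.ψ g₀ N) := by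
    rw [Groth.L20.ResDescent.ψ]
    infer_instance
  have hc : κ ≫ Groth.L12.VBLift.eta g₀ N =
      tensorMap (𝟙 N) (kernel.ι (ClSub.unitToPush j) ≫ ClSub.unitToPush g₀) ≫ Groth.L20.ResDescent.ψ g₀ N := by
    rw [hκ, Category.assoc, ← Groth.L12.VBLift.ψ_restrict, ← Category.assoc]
    exact congrArg (· ≫ _) ((tensorLeftF N).map_comp _ _).symm
  haveI : IsIso (tensorMap (𝟙 N) (kernel.ι (ClSub.unitToPush j) ≫ ClSub.unitToPush g₀)) :=
    inferInstanceAs (IsIso ((tensorLeftF N).map _))
  haveI : IsIso (κ ≫ Groth.L12.VBLift.eta g₀ N) := by rw [hc]; infer_instance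
  let s := κ.app ⊤ ((inv (κ ≫ Groth.L12.VBLift.eta g₀ N)).app ⊤ t)
  refine ⟨s, ?_, ?_⟩
  · show ((inv (κ ≫ Groth.L12.VBLift.eta g₀ N)) ≫ κ ≫ Groth.L12.VBLift.eta g₀ N).app ⊤ t = t
    rw [IsIso.inv_hom_id]
    rfl
  · show (κ ≫ Groth.L12.VBLift.eta j N).app ⊤ _ = 0
    rw [w]
    rfl

end Disjoint

end Groth.L13.NumGenus
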