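import Groth.Agent.L13.NumGenus.Vanish
import Groth.Agent.L13.NumGenus.PicStep

/-!
# Divisors of negative numerical genus have trivial `Pic⁰`
-/

set_option autoImplicit false
set_option backward.isDefEq.respectTransparency false
set_option backward.isDefEq.respectTransparency.types false
set_option linter.style.haveILetI false
set_option linter.unusedSectionVars false
universe u

open CategoryTheory CategoryTheory.Limits AlgebraicGeometry TopologicalSpace

noncomputable section

namespace Groth.L13.NumGenus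

open Groth.L00.Tensor (tensorIso tensorUnitRight)
open Groth.L18.Frame (IsFrame rs rs_rs rs_self)
open Groth.L21.PicExt (fl isFrame_fl mem_fl mem_fl_of_pullback mem_fl_pullback)
open Groth.L05.InterPair Groth.L05.EulerDiv

/-- On an empty scheme every module is the structure sheaf. -/
theorem nonempty_iso_of_isEmpty {Y : Scheme.{u}} [IsEmpty Y] (N : Y.Modules) :
    Nonempty (N ≅ Coh.structureModule Y) :=
  ⟨((Groth.L21.Mod.isZero_iff_stalk_subsingleton _).2 fun x => isEmptyElim x).iso
    ((Groth.L21.Mod.isZero_iff_stalk_subsingleton _).2 fun x => isEmptyElim x)⟩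

/-- A section which is a frame everywhere trivialises. -/
theorem nonempty_iso_of_fl {Y : Scheme.{u}} {N : Y.Modules} (s : Γ(N, ⊤)) (h : ∀ y, y ∈ fl N s) :
    Nonempty (N ≅ Coh.structureModule Y) := by
  have htop : fl N s = ⊤ := top_le_iff.1 fun y _ => h y
  have hf := isFrame_fl N s
  have : IsFrame N ⊤ s := fun V hV => by
    have h1 := hf V (hV.trans htop.ge)
    simpa only [rs_rs] using h1
  obtain ⟨i⟩ := Groth.L21.PicExt.nonempty_iso_of_isFrame_top this
  exact ⟨i.symm⟩

variable {R : Type u} [CommRing R] [IsDomain R] [IsDiscreteValuationRing R]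
  {X : Over (Spec (CommRingCat.of R))} [IsProper X.hom] [IsLocallyNoetherian X.left] [IsIntegral X.left]
  [Flat X.hom] (hX : ArSurf.IsArithSurface R X)

local notation "κ" => IsLocalRing.ResidueField R

include hX in
/-- Adding one curve `E` to the divisor of `I`. -/
theorem trivial_step (I : X.left.IdealSheafData) (hI : BlowUp.IsEffCartierIdeal I) (E : ArSurf.VertComp R X)
    (hlayer : ∀ P : E.curve.left.Modules, PicF.IsInvertible P → ArSurf.curveDeg κ E.curve.left P = 0 →
      Subsingleton (Coh.HH E.curve.left (CohB1.tensorMod P ((Scheme.Modules.pullback E.ι).obj (ClSub.idealMod I))) 1))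
    (hE1 : Models.h1 R X E = 0) {J : X.left.IdealSheafData} (hJdef : J = I * E.ι.ker)
    (N : J.subscheme.Modules) (hN : PicF.IsInvertible N)
    (hdeg : ∀ g : E.curve.left ⟶ J.subscheme, g ≫ J.subschemeι = E.ι →
      ArSurf.curveDeg κ E.curve.left ((Scheme.Modules.pullback g).obj N) = 0)
    (htriv : ∀ (g : I.subscheme ⟶ J.subscheme), g ≫ J.subschemeι = I.subschemeι →
      Nonempty ((Scheme.Modules.pullback g).obj N ≅ Coh.structureModule I.subscheme)) :
    Nonempty (N ≅ Coh.structureModule J.subscheme) := by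
  classical
  subst hJdef
  haveI : X.left.IsSeparated := ⟨by rw [← terminal.comp_from X.hom]; infer_instance⟩
  haveI := E.isIntegral
  haveI := isProper_curve E
  haveI := Groth.L21.RR.isNoetherian_of_proper (X := E.curve.left) κ
  let J := I * E.ι.ker
  let z' := J.subschemeι
  have hJI : J ≤ I := by
    rw [Scheme.IdealSheafData.le_def]
    intro U
    show (I * E.ι.ker).ideal U ≤ _
    rw [Scheme.IdealSheafData.ideal_mul, Pi.mul_apply]
    exact Ideal.mul_le_left
  have hJE : z'.ker ≤ E.ι.ker := by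
    rw [show z'.ker = I * E.ι.ker from Scheme.IdealSheafData.ker_subschemeι _, Scheme.IdealSheafData.le_def]
    intro U
    rw [Scheme.IdealSheafData.ideal_mul, Pi.mul_apply]
    exact Ideal.mul_le_right
  let ρ := Scheme.IdealSheafData.inclusion hJI
  have hρ : ρ ≫ z' = I.subschemeι := Scheme.IdealSheafData.inclusion_subschemeι hJI
  haveI : IsClosedImmersion (ρ ≫ z') := by rw [hρ]; infer_instance
  haveI : IsClosedImmersion ρ := IsClosedImmersion.of_comp ρ z'
  let jE := IsClosedImmersion.lift z' E.ι hJE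
  have hjE : jE ≫ z' = E.ι := IsClosedImmersion.lift_fac _ _ _
  haveI : IsClosedImmersion (jE ≫ z') := by rw [hjE]; infer_instance
  haveI : IsClosedImmersion jE := IsClosedImmersion.of_comp jE z'
  haveI : IsLocallyNoetherian J.subscheme := LocallyOfFiniteType.isLocallyNoetherian z'
  haveI : J.subscheme.IsSeparated := ⟨by rw [← terminal.comp_from z']; infer_instance⟩
  letI : J.subscheme.Over (Spec (CommRingCat.of R)) := ⟨z' ≫ X.hom⟩
  -- the kernel of restriction to the divisor of `I` lives on `E`
  have hM := (Groth.Agent.L19.IdealInvertible.isEffCartier_iff _).2 hI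
  let M := ClSub.idealMod I
  let G := (Scheme.Modules.pullback E.ι).obj M
  have hG : PicF.IsInvertible G := Groth.L18.Ample.isInvertible_pullback E.ι hM
  obtain ⟨f, g, w, hS, hg⟩ := exists_shortExact_quot I E.ι.ker hI
  obtain ⟨q⟩ := nonempty_push_curve E
  haveI := Groth.L17.ProjFormula.isIso_θ E.ι M (Coh.structureModule E.curve.left)
    (Groth.L16.Existence.isFinLocFree_of_isInvertible hM)
  let e₁ : CohB1.tensorMod M (ClSub.quotMod E.ι.ker) ≅ (Scheme.Modules.pushforward E.ι).obj G :=
    tensorIso (Iso.refl M) q.symm ≪≫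
      asIso (Groth.L17.ClosedPush.θ E.ι (Coh.structureModule E.curve.left) M) ≪≫
      (Scheme.Modules.pushforward E.ι).mapIso (tensorUnitRight _)
  let v : (Scheme.Modules.pushforward z').obj ((Scheme.Modules.pushforward ρ).obj (Coh.structureModule I.subscheme)) ≅
      ClSub.quotMod I :=
    (Scheme.Modules.pushforwardComp ρ z').app _ ≪≫ (Scheme.Modules.pushforwardCongr hρ).app _
  have huv : (Scheme.Modules.pushforward z').map (ClSub.unitToPush ρ) ≫ v.hom = g := by
    haveI := Groth.L21.RR.epi_toSubscheme J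
    rw [← cancel_epi (ClSub.toSubscheme J), hg]
    exact unitToPush_comp ρ z' I.subschemeι hρ
  let eX : (Scheme.Modules.pushforward z').obj ((Scheme.Modules.pushforward jE).obj G) ≅
      (Scheme.Modules.pushforward z').obj (kernel (ClSub.unitToPush ρ)) :=
    (Scheme.Modules.pushforwardComp jE z').app _ ≪≫ (Scheme.Modules.pushforwardCongr hjE).app _ ≪≫ e₁.symm ≪≫
      (IsLimit.conePointUniqueUpToIso (hS.fIsKernel) (limit.isLimit _)) ≪≫
      (kernel.mapIso ((Scheme.Modules.pushforward z').map (ClSub.unitToPush ρ)) g (Iso.refl _) v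
        (by simpa using huv)).symm ≪≫
      (PreservesKernel.iso (Scheme.Modules.pushforward z') (ClSub.unitToPush ρ)).symm
  let e : (Scheme.Modules.pushforward jE).obj G ≅ kernel (ClSub.unitToPush ρ) := (pushFF z').preimageIso eX
  -- a section extending a frame of the restriction
  let P := (Scheme.Modules.pullback jE).obj N
  have hP : PicF.IsInvertible P := Groth.L18.Ample.isInvertible_pullback jE hN
  have hP0 : ArSurf.curveDeg κ E.curve.left P = 0 := hdeg jE hjE
  obtain ⟨τ⟩ := htriv ρ hρ
  let t : Γ((Scheme.Modules.pullback ρ).obj N, ⊤) :=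
    τ.inv.app ⊤ (show Γ(Coh.structureModule I.subscheme, ⊤) from (1 : Γ(I.subscheme, ⊤)))
  have ht : IsFrame _ ⊤ t := Groth.L19.ProjBdl.isFrame_of_iso τ.symm (Groth.L03.SurfAmple.isFrame_one ⊤)
  have ht' : ∀ y, y ∈ fl ((Scheme.Modules.pullback ρ).obj N) t := fun y =>
    mem_fl (W := ⊤) (by rwa [rs_self]) trivial
  obtain ⟨s, hs⟩ := exists_lift_section (A := R) ρ jE hG e hN (hlayer P hP hP0) t
  -- repair it on `E` if it vanishes there
  obtain ⟨s₁, hs₁, hne⟩ : ∃ s₁ : Γ(N, ⊤), ProjUP.pullSec ρ N s₁ = t ∧ ProjUP.pullSec jE N s₁ ≠ 0 := by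
    by_cases h0 : ProjUP.pullSec jE N s = 0
    · have hdis : ∀ x, jE x ∉ Set.range ρ := by
        rintro x ⟨y, hy⟩
        have h2 : jE x ∈ fl N s := by
          rw [← hy]
          exact mem_fl_of_pullback ρ hN s (by rw [hs]; exact ht' y)
        have h3 := mem_fl_pullback jE s h2
        rw [h0] at h3
        have h5 := isFrame_fl P (0 : Γ(P, ⊤)) (fl P (0 : Γ(P, ⊤))) le_rfl
        haveI : Nonempty (fl P (0 : Γ(P, ⊤))).toScheme := ⟨⟨x, h3⟩⟩
        haveI : Nontrivial Γ(E.curve.left, fl P (0 : Γ(P, ⊤))) :=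
          (IsIntegral.component_integral (fl P (0 : Γ(P, ⊤)))).toNontrivial
        exact one_ne_zero (α := Γ(E.curve.left, fl P (0 : Γ(P, ⊤)))) (h5.1 (by simp))
      haveI : Nontrivial (Coh.HH E.curve.left P 0) := by
        refine not_subsingleton_iff_nontrivial.1 fun hsub => ?_
        haveI := hsub
        have h := hP0
        rw [curveDeg_eq_euler κ E.dim_eq, Groth.L21.RR.euler_eq κ E.dim_eq.le,
          Groth.L21.RR.euler_eq κ E.dim_eq.le, Groth.L21.RR.h_eq_zero_of_subsingleton κ hsub] at h
        have hw : 0 < Models.wdeg R X E := wdeg_pos E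
        simp only [Groth.L21.RR.h] at h
        simp only [Models.wdeg] at hw
        simp only [Models.h1] at hE1
        rw [hE1] at h
        omega
      obtain ⟨x, hx⟩ := exists_ne (0 : Coh.HH E.curve.left P 0)
      obtain ⟨s', hs', hs'0⟩ := exists_section_zero_on ρ jE hG e (A := R) hdis hN (Groth.L21.RR.e0 P x)
      refine ⟨s + s', ?_, ?_⟩
      · show (Groth.L12.VBLift.eta ρ N).app ⊤ (s + s') = t
        rw [map_add]
        exact (congrArg₂ (· + ·) hs hs'0).trans (add_zero t)
      · intro h
        refine hx ((Groth.L21.RR.e0 P).injective ((?_ : _ = (0 : Γ(P, ⊤))).trans (map_zero _).symm))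
        rw [← hs', ← h]
        show (Groth.L12.VBLift.eta jE N).app ⊤ s' = (Groth.L12.VBLift.eta jE N).app ⊤ (s + s')
        rw [map_add]
        exact ((congrArg (· + _) h0).trans (zero_add _)).symm
    · exact ⟨s, hs, h0⟩
  refine nonempty_iso_of_fl s₁ fun p => ?_
  have hfr : IsFrame P ⊤ (ProjUP.pullSec jE N s₁) := isFrame_of_deg_zero κ E.dim_eq hP hP0 hne
  have hp : z' p ∈ (I.support : Set X.left) ∪ (E.ι.ker.support : Set X.left) := by
    rw [← TopologicalSpace.Closeds.coe_sup, ← Scheme.IdealSheafData.support_mul]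
    exact (Scheme.IdealSheafData.range_subschemeι J).subset ⟨p, rfl⟩
  rcases hp with hp | hp
  · obtain ⟨y, hy⟩ := (Scheme.IdealSheafData.range_subschemeι I).ge hp
    have hyp : ρ y = p := z'.isClosedEmbedding.injective (by rw [← Scheme.Hom.comp_apply, hρ]; exact hy)
    exact hyp ▸ mem_fl_of_pullback ρ hN s₁ (by rw [hs₁]; exact ht' y)
  · rw [Groth.L05.FibreDecomp.support_ker] at hp
    obtain ⟨y, hy⟩ := hp
    have hyp : jE y = p := z'.isClosedEmbedding.injective (by rw [← Scheme.Hom.comp_apply, hjE]; exact hy)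
    exact hyp ▸ mem_fl_of_pullback jE hN s₁ (mem_fl (W := ⊤) (by rwa [rs_self]) trivial)

variable {r : ℕ} {Γ : Fin r → ArSurf.VertComp R X} {L : Fin r → X.left.Modules}
  (hL : ∀ j, ClSub.IsInverseOf (L j) (ClSub.idealMod (Γ j).ι.ker))
  {ω : X.left.Modules} (hω : Canon.IsCanonical X.hom ω) {a : Fin r → ℕ}

include hX hL hω in
/-- A curve occurring in such a divisor has no first cohomology. -/
theorem h1_eq_zero_of_numNeg (ha : NumNeg Γ L ω a) (i : Fin r) (hi : 0 < a i) : Models.h1 R X (Γ i) = 0 := by
  classical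
  have h := ha (fun j => if j = i then 1 else 0) (fun j => by
    by_cases hj : j = i
    · subst hj; simp only [if_pos]; exact hi
    · simp [hj]) (fun h => by simpa using congrFun h i)
  simp [Finset.sum_ite_eq', ite_mul, apply_ite (Nat.cast : ℕ → ℤ)] at h
  have h2 := Groth.L13.ArAdj.canonical_inter_eq hX (Γ i) (hL i) hω
  obtain ⟨m, hm⟩ := wdeg_dvd_h1 (Γ i)
  have hw : (0 : ℤ) < Models.wdeg R X (Γ i) := by exact_mod_cast wdeg_pos (Γ i)
  rcases Nat.eq_zero_or_pos m with h0 | h0
  · rw [hm, h0, mul_zero]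
  · exfalso
    have h4 : (Models.h1 R X (Γ i) : ℤ) = (Models.wdeg R X (Γ i) : ℤ) * m := by exact_mod_cast hm
    have : (1 : ℤ) ≤ m := by exact_mod_cast h0
    nlinarith

include hX hL hω in
/-- Modules of degree zero on every curve of the divisor are trivial. -/
theorem pic0_trivial (ha : NumNeg Γ L ω a) :
    ∀ N : (Groth.L05.InterPair.div Γ a).subscheme.Modules, PicF.IsInvertible N →
      (∀ (i : Fin r) (g : (Γ i).curve.left ⟶ (Groth.L05.InterPair.div Γ a).subscheme),
        g ≫ (Groth.L05.InterPair.div Γ a).subschemeι = (Γ i).ι →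
        ArSurf.curveDeg κ (Γ i).curve.left ((Scheme.Modules.pullback g).obj N) = 0) →
      Nonempty (N ≅ Coh.structureModule (Groth.L05.InterPair.div Γ a).subscheme) := by
  classical
  refine numNeg_induction (P := fun b => ∀ N : (Groth.L05.InterPair.div Γ b).subscheme.Modules, PicF.IsInvertible N →
      (∀ (i : Fin r) (g : (Γ i).curve.left ⟶ (Groth.L05.InterPair.div Γ b).subscheme),
        g ≫ (Groth.L05.InterPair.div Γ b).subschemeι = (Γ i).ι →
        ArSurf.curveDeg κ (Γ i).curve.left ((Scheme.Modules.pullback g).obj N) = 0) →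
      Nonempty (N ≅ Coh.structureModule (Groth.L05.InterPair.div Γ b).subscheme)) ha ?_ ?_
  · intro N _ _
    haveI : IsEmpty (Groth.L05.InterPair.div Γ fun _ : Fin r => 0).subscheme := ⟨fun x => by
      have h : ∀ (I : X.left.IdealSheafData), I = 1 → ∀ y : I.subscheme, False := by
        rintro I rfl y
        exact notMem_support_one _ ((Scheme.IdealSheafData.range_subschemeι _).subset ⟨y, rfl⟩)
      exact h _ (Finset.prod_eq_one fun j _ => pow_zero _) x⟩
    exact nonempty_iso_of_isEmpty N
  · intro b i hle hneg ih N hN hdeg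
    refine trivial_step hX _ (Groth.L13.ArAdj.isEffCartier_div hX.1 hX.2.2.1 (Γs := Γ) b) (Γ i)
      (fun P hP hP0 => ?_) (h1_eq_zero_of_numNeg hX hL hω ha i (lt_of_lt_of_le (by simp) (hle i)))
      (Groth.L13.ArAdj.div_add_single (Γs := Γ) b i) N hN (hdeg i) fun g hg => ?_
    · haveI := (Γ i).isIntegral
      haveI := isProper_curve (Γ i)
      have hI := (Groth.Agent.L19.IdealInvertible.isEffCartier_iff _).2
        (Groth.L13.ArAdj.isEffCartier_div hX.1 hX.2.2.1 (Γs := Γ) b)
      refine subsingleton_h1_of_deg_gt hX (Γ i) (hL i) hω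
        (Groth.L18.GenLoc.isInvertible_tensor hP (Groth.L18.Ample.isInvertible_pullback _ hI)) ?_
      rw [curveDeg_tensor κ (Γ i).dim_eq hP (Groth.L18.Ample.isInvertible_pullback _ hI), hP0, zero_add]
      show _ < negDeg (Γ i) (Groth.L05.InterPair.div Γ b)
      rw [Groth.L13.ArAdj.negDeg_div hX.1 hX.2.2.1 (Γ i) b]
      have hj : ∀ j, negDeg (Γ i) (Γ j).ι.ker = -ArSurf.inter R X (L j) (Γ i) := fun j => by
        rw [inter_eq_neg_negDeg (Γ i) (Groth.L13.Canon.isEffCartier_vert hX (Γ j)) (hL j), neg_neg]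
      simp only [hj, mul_neg, Finset.sum_neg_distrib]
      simp only [add_mul, Finset.sum_add_distrib, ite_mul, one_mul, zero_mul, Finset.sum_ite_eq', Finset.mem_univ,
        if_true] at hneg
      linarith
    · refine ih _ (Groth.L18.Ample.isInvertible_pullback g hN) fun j k hk => ?_
      haveI := (Γ j).isIntegral
      haveI := isProper_curve (Γ j)
      exact (curveDeg_congr κ (Γ j).dim_eq ((Scheme.Modules.pullbackComp k g).app N)).trans
        (hdeg j (k ≫ g) (by rw [Category.assoc, hg, hk]))

end Groth.L13.NumGenus
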