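import Groth.Agent.L13.NumGenus.CurveVanish
import Groth.Agent.L13.ArAdj.DivFamily
import Groth.Agent.L13.ArAdj.Lengths

/-!
# Divisors of negative numerical genus have no first cohomology
-/

set_option autoImplicit false
set_option backward.isDefEq.respectTransparency false
set_option linter.style.haveILetI false
set_option linter.unusedSectionVars false
universe u

open CategoryTheory CategoryTheory.Limits AlgebraicGeometry TopologicalSpace

noncomputable section

namespace Groth.L13.NumGenus

open Groth.L05.InterPair Groth.L05.EulerDiv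

variable {R : Type u} [CommRing R] [IsDomain R] [IsDiscreteValuationRing R]
  {X : Over (Spec (CommRingCat.of R))} (hX : ArSurf.IsArithSurface R X) {r : ℕ}
  {Γ : Fin r → ArSurf.VertComp R X} {L : Fin r → X.left.Modules}
  (hL : ∀ j, ClSub.IsInverseOf (L j) (ClSub.idealMod (Γ j).ι.ker))
  {ω : X.left.Modules} (hω : Canon.IsCanonical X.hom ω) {a : Fin r → ℕ}

local notation "κ" => IsLocalRing.ResidueField R

/-- All divisors below `a` have negative numerical genus. -/
def NumNeg (Γ : Fin r → ArSurf.VertComp R X) (L : Fin r → X.left.Modules) (ω : X.left.Modules) (a : Fin r → ℕ) :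
    Prop :=
  ∀ a' : Fin r → ℕ, a' ≤ a → a' ≠ 0 →
    ∑ i, (a' i : ℤ) * (∑ j, (a' j : ℤ) * ArSurf.inter R X (L j) (Γ i) + ArSurf.inter R X ω (Γ i)) < 0

/-- Peeling off one curve of negative degree. -/
theorem numNeg_induction (ha : NumNeg Γ L ω a) {P : (Fin r → ℕ) → Prop} (h0 : P fun _ => 0)
    (hs : ∀ b i, (fun j => b j + if j = i then 1 else 0) ≤ a →
      ∑ j, ((b j : ℤ) + if j = i then 1 else 0) * ArSurf.inter R X (L j) (Γ i) + ArSurf.inter R X ω (Γ i) < 0 →
      P b → P fun j => b j + if j = i then 1 else 0) :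
    P a := by
  classical
  suffices ∀ (m : ℕ) (b : Fin r → ℕ), b ≤ a → ∑ j, b j = m → P b from this _ a le_rfl rfl
  intro m
  induction m with
  | zero =>
    intro b _ hb
    rw [show b = fun _ => 0 from funext fun j => Finset.sum_eq_zero_iff.1 hb j (Finset.mem_univ j)]
    exact h0
  | succ m ih =>
    intro b hba hb
    have hne : b ≠ 0 := fun h => by simp [h] at hb
    obtain ⟨i, -, hi⟩ := Finset.exists_lt_of_sum_lt (s := Finset.univ) (g := fun _ : Fin r => (0 : ℤ))
      ((ha b hba hne).trans_le (by simp))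
    have hpos : 0 < b i := by
      refine Nat.pos_of_ne_zero fun h => ?_
      simp [h] at hi
    have hneg : ∑ j, (b j : ℤ) * ArSurf.inter R X (L j) (Γ i) + ArSurf.inter R X ω (Γ i) < 0 :=
      neg_of_mul_neg_right hi (Int.natCast_nonneg _)
    have hae : b = fun j => Function.update b i (b i - 1) j + if j = i then 1 else 0 := by
      funext j
      rcases eq_or_ne j i with rfl | hj
      · rw [Function.update_self, if_pos rfl]; omega
      · rw [Function.update_of_ne hj, if_neg hj, add_zero]
    have hsum : ∑ j, Function.update b i (b i - 1) j = m := by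
      have h1 := Finset.sum_update_of_mem (Finset.mem_univ i) b (b i - 1)
      have h2 := Finset.sum_eq_add_sum_sdiff_singleton_of_mem (Finset.mem_univ i) b
      omega
    have hle : Function.update b i (b i - 1) ≤ a := fun j => by
      refine le_trans ?_ (hba j)
      rcases eq_or_ne j i with rfl | hj
      · rw [Function.update_self]; exact Nat.sub_le _ _
      · rw [Function.update_of_ne hj]
    rw [hae]
    refine hs _ i (hae ▸ hba) ?_ (ih _ hle hsum)
    refine lt_of_eq_of_lt (congrArg (· + _) (Finset.sum_congr rfl fun j _ => congrArg (· * _) ?_)) hneg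
    rw [congrFun hae j]
    push_cast
    simp [apply_ite (Nat.cast : ℕ → ℤ)]

variable [IsProper X.hom] [IsLocallyNoetherian X.left] [IsIntegral X.left] [Flat X.hom]

include hX hL hω in
/-- The layer between two successive divisors has no first cohomology. -/
theorem subsingleton_h1_layer (b : Fin r → ℕ) (i : Fin r)
    (hneg : ∑ j, ((b j : ℤ) + if j = i then 1 else 0) * ArSurf.inter R X (L j) (Γ i) + ArSurf.inter R X ω (Γ i) < 0) :
    Subsingleton (Coh.HH X.left
      (CohB1.tensorMod (ClSub.idealMod (Groth.L05.InterPair.div Γ b)) (ClSub.quotMod (Γ i).ι.ker)) 1) := by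
  classical
  set E := Γ i
  have hI := Groth.L13.ArAdj.isEffCartier_div hX.1 hX.2.2.1 (Γs := Γ) b
  haveI := isProper_curve E
  haveI := Groth.L21.RR.isNoetherian_of_proper (X := E.curve.left) κ
  haveI : X.left.IsSeparated := ⟨by rw [← terminal.comp_from X.hom]; infer_instance⟩
  have hM := (Groth.Agent.L19.IdealInvertible.isEffCartier_iff _).2 hI
  set M := ClSub.idealMod (Groth.L05.InterPair.div Γ b)
  set N := (Scheme.Modules.pullback E.ι).obj M
  have hNi : PicF.IsInvertible N := Groth.L18.Ample.isInvertible_pullback E.ι hM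
  haveI := Groth.L17.ProjFormula.isIso_θ E.ι M (Coh.structureModule E.curve.left)
    (Groth.L16.Existence.isFinLocFree_of_isInvertible hM)
  obtain ⟨q⟩ := nonempty_push_curve E
  let e : CohB1.tensorMod M (ClSub.quotMod E.ι.ker) ≅ (Scheme.Modules.pushforward E.ι).obj N :=
    Groth.L00.Tensor.tensorIso (Iso.refl M) q.symm ≪≫
      asIso (Groth.L17.ClosedPush.θ E.ι (Coh.structureModule E.curve.left) M) ≪≫
      (Scheme.Modules.pushforward E.ι).mapIso (Groth.L00.Tensor.tensorUnitRight _)
  letI : E.curve.left.Over (Spec (CommRingCat.of R)) := ⟨E.ι ≫ X.hom⟩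
  letI : X.left.Over (Spec (CommRingCat.of R)) := ⟨X.hom⟩
  have hdeg : ArSurf.inter R X (L i) E + ArSurf.inter R X ω E < ArSurf.curveDeg κ E.curve.left N := by
    show _ < negDeg E (Groth.L05.InterPair.div Γ b)
    rw [Groth.L13.ArAdj.negDeg_div hX.1 hX.2.2.1 E b]
    have hj : ∀ j, negDeg E (Γ j).ι.ker = -ArSurf.inter R X (L j) E := fun j => by
      rw [inter_eq_neg_negDeg E (Groth.L13.Canon.isEffCartier_vert hX (Γ j)) (hL j), neg_neg]
    simp only [hj, mul_neg, Finset.sum_neg_distrib]
    simp only [add_mul, Finset.sum_add_distrib, ite_mul, one_mul, zero_mul, Finset.sum_ite_eq', Finset.mem_univ,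
      if_true] at hneg
    linarith
  haveI := subsingleton_h1_of_deg_gt hX E (hL i) hω hNi hdeg
  obtain ⟨φ⟩ := exists_HH_push (A := R) (W := X.left) E.ι N (Groth.L16.ProperFinite.isCoh_of_isInvertible hNi).1 rfl 1
  exact ((hhIso (A := R) e 1).trans φ.symm).toEquiv.subsingleton

include hX hL hω in
/-- No first cohomology on the surface. -/
theorem subsingleton_h1_quot (ha : NumNeg Γ L ω a) :
    Subsingleton (Coh.HH X.left (ClSub.quotMod (Groth.L05.InterPair.div Γ a)) 1) := by
  refine numNeg_induction (P := fun b => Subsingleton (Coh.HH X.left (ClSub.quotMod (Groth.L05.InterPair.div Γ b)) 1))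
    ha (Groth.L03.Euler.subsingleton_HH_of_isZero (Groth.L13.ArAdj.isZero_quot_div_zero (Γs := Γ)) 1) ?_
  intro b i _ hneg ih
  obtain ⟨f, g, w, hS, -⟩ := exists_shortExact_quot (Groth.L05.InterPair.div Γ b) (Γ i).ι.ker
    (Groth.L13.ArAdj.isEffCartier_div hX.1 hX.2.2.1 (Γs := Γ) b)
  haveI h1 := subsingleton_h1_layer hX hL hω b i hneg
  rw [Groth.L13.ArAdj.div_add_single (Γs := Γ) b i]
  refine subsingleton_of_forall_eq 0 fun x => ?_
  obtain ⟨y, rfl⟩ := (Groth.L16.CohLinear.exact_hmap_hmap hS 1 x).1 (@Subsingleton.elim _ ih _ _)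
  rw [Subsingleton.elim y 0, map_zero]

include hX hL hω in
/-- No first cohomology on the divisor. -/
theorem subsingleton_h1_div (ha : NumNeg Γ L ω a) :
    Subsingleton (Coh.HH (Groth.L05.InterPair.div Γ a).subscheme
      (Coh.structureModule (Groth.L05.InterPair.div Γ a).subscheme) 1) := by
  haveI : X.left.IsSeparated := ⟨by rw [← terminal.comp_from X.hom]; infer_instance⟩
  set I := Groth.L05.InterPair.div Γ a
  letI : I.subscheme.Over (Spec (CommRingCat.of R)) := ⟨I.subschemeι ≫ X.hom⟩
  letI : X.left.Over (Spec (CommRingCat.of R)) := ⟨X.hom⟩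
  haveI : IsLocallyNoetherian I.subscheme := LocallyOfFiniteType.isLocallyNoetherian I.subschemeι
  obtain ⟨φ⟩ := exists_HH_push (A := R) (W := X.left) I.subschemeι (Coh.structureModule I.subscheme)
    (Groth.L16.CohClosedPush.isCoh_structure (X := I.subscheme)).1 rfl 1
  haveI := subsingleton_h1_quot hX hL hω ha
  exact φ.toEquiv.subsingleton

end Groth.L13.NumGenus
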